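import Groth.Prelude.Def_NonAbH2
import Groth.Agent.L25.Actions

/-!
# Locally surjective morphisms for the fpqc topology and torsors given by points
-/

set_option autoImplicit false
universe u

open CategoryTheory CategoryTheory.Limits MonoidalCategory CartesianMonoidalCategory MonObj AlgebraicGeometry

namespace Groth.L27.Torsor

variable {S : Scheme.{u}} {X Y Z T : Over S}

/-- `q` has sections fpqc-locally. -/
def Cov (q : X ⟶ Y) : Prop :=
  Sieve.generate (Presieve.singleton q.left) ∈ Scheme.fpqcTopology Y.left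

theorem cov_of_locallyTrivial (v : X ⟶ Y)
    (h : NonAbH1.IsLocallyTrivialFor Scheme.fpqcPrecoverage (Over.mk v.left : Over Y.left)) : Cov v := by
  obtain ⟨R, hR, hsec⟩ := h
  refine Scheme.fpqcTopology.superset_covering ?_ (Precoverage.generate_mem_toGrothendieck hR)
  rw [Sieve.generate_le_iff]
  intro T f hf
  obtain ⟨s, hs⟩ := hsec f hf
  exact ⟨X.left, s, v.left, Presieve.singleton_self _, hs⟩

theorem cov_toUnit (h : NonAbH1.IsLocallyTrivialFor Scheme.fpqcPrecoverage X) : Cov (toUnit X) := by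
  obtain ⟨R, hR, hsec⟩ := h
  refine Scheme.fpqcTopology.superset_covering ?_ (Precoverage.generate_mem_toGrothendieck hR)
  rw [Sieve.generate_le_iff]
  intro T f hf
  obtain ⟨s, hs⟩ := hsec f hf
  exact ⟨X.left, s, (toUnit X).left, Presieve.singleton_self _, hs⟩

theorem Cov.of_isPullback {P A : Over S} {p : P ⟶ X} {p' : P ⟶ A} {q : X ⟶ Y} {g : A ⟶ Y}
    (h : IsPullback p p' q g) (hq : Cov q) : Cov p' := by
  refine Scheme.fpqcTopology.superset_covering ?_ (Scheme.fpqcTopology.pullback_stable g.left hq)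
  rintro V f ⟨_, s, _, ⟨⟩, e⟩
  let V' : Over S := Over.mk (f ≫ A.hom)
  let a : V' ⟶ A := Over.homMk f
  let b : V' ⟶ X := Over.homMk s (by
    change s ≫ X.hom = f ≫ A.hom
    rw [← Over.w q, ← Category.assoc, e, Category.assoc, Over.w g])
  have hba : b ≫ q = a ≫ g := by ext1; exact e
  exact ⟨P.left, (h.lift b a hba).left, p'.left, Presieve.singleton_self _,
    congrArg CommaMorphism.left (h.lift_snd b a hba)⟩

theorem Cov.comp_iso {X' : Over S} (e : X' ⟶ X) [IsIso e] {q : X ⟶ Y} (hq : Cov q) : Cov (e ≫ q) := by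
  refine Scheme.fpqcTopology.superset_covering ?_ hq
  rintro V f ⟨_, s, _, ⟨⟩, rfl⟩
  exact ⟨X'.left, s ≫ (inv e).left, (e ≫ q).left, Presieve.singleton_self _, by
    rw [Category.assoc, ← Over.comp_left, IsIso.inv_hom_id_assoc]⟩

theorem cov_snd (h : Cov (toUnit X)) (T : Over S) : Cov (snd X T) :=
  Cov.of_isPullback (p := fst X T) (g := toUnit T)
    (IsPullback.of_isLimit' ⟨Subsingleton.elim _ _⟩ (PullbackCone.IsLimit.mk _
      (fun s => lift s.fst s.snd) (fun s => by simp) (fun s => by simp)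
      (fun s m h₁ h₂ => by ext1 <;> simp [h₁, h₂]))) h

theorem cov_fst (h : Cov (toUnit X)) (T : Over S) : Cov (fst T X) := by
  have := Cov.comp_iso (β_ T X).hom (cov_snd h T)
  rwa [show (β_ T X).hom ≫ snd X T = fst T X by simp] at this

theorem Cov.whiskerLeft (A : Over S) {q : X ⟶ Y} (hq : Cov q) : Cov (A ◁ q) :=
  Cov.of_isPullback (p := snd A X) (g := snd A Y)
    (IsPullback.of_isLimit' ⟨(whiskerLeft_snd _ _).symm⟩ (PullbackCone.IsLimit.mk _
      (fun s => lift (s.snd ≫ fst A Y) s.fst) (fun s => by simp)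
      (fun s => by ext1 <;> simp [s.condition])
      (fun s m h₁ h₂ => by
        ext1
        · simp [← h₂]
        · simp [h₁]))) hq

/-- Morphisms descend along locally surjective morphisms. -/
theorem descend {q : X ⟶ Y} (hq : Cov q) (d : X ⟶ Z)
    (h : ∀ (T : Over S) (a b : T ⟶ X), a ≫ q = b ≫ q → a ≫ d = b ≫ d) :
    ∃ f : Y ⟶ Z, q ≫ f = d := by
  have hsh : ∀ W : Scheme.{u}, Presieve.IsSheafFor (yoneda.obj W) (Presieve.singleton q.left) := fun W => by
    exact (GrothendieckTopology.Subcanonical.isSheaf_of_isRepresentable (J := Scheme.fpqcTopology)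
      (yoneda.obj W)).isSheafFor _ hq
  obtain ⟨f, hf, -⟩ := (Presieve.isSheafFor_singleton.1 (hsh Z.left)) d.left (fun {T} p₁ p₂ hp => by
    let T' : Over S := Over.mk (p₁ ≫ X.hom)
    let a : T' ⟶ X := Over.homMk p₁
    let b : T' ⟶ X := Over.homMk p₂ (by
      change p₂ ≫ X.hom = p₁ ≫ X.hom
      rw [← Over.w q, ← Category.assoc, ← Category.assoc, hp])
    exact congrArg CommaMorphism.left (h T' a b (by ext1; exact hp)))
  obtain ⟨g, -, hg⟩ := (Presieve.isSheafFor_singleton.1 (hsh S)) X.hom (fun {T} p₁ p₂ hp => by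
    change p₁ ≫ X.hom = p₂ ≫ X.hom
    rw [← Over.w q, ← Category.assoc, ← Category.assoc, hp])
  have hf' : q.left ≫ f = d.left := hf
  refine ⟨Over.homMk f ((hg _ ?_).trans (hg _ ?_).symm), by ext1; exact hf'⟩
  · change q.left ≫ f ≫ Z.hom = X.hom
    rw [← Category.assoc, hf', Over.w]
  · exact Over.w q

theorem cancel {q : X ⟶ Y} (hq : Cov q) {f g : Y ⟶ Z} (h : q ≫ f = q ≫ g) : f = g := by
  have hsh : Presieve.IsSheafFor (yoneda.obj Z.left) (Presieve.singleton q.left) := by
    exact (GrothendieckTopology.Subcanonical.isSheaf_of_isRepresentable (J := Scheme.fpqcTopology)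
      (yoneda.obj Z.left)).isSheafFor _ hq
  ext1
  exact hsh.isSeparatedFor.ext fun _ _ hp => by
    cases hp
    exact congrArg CommaMorphism.left h

section pseudo

variable {G : Over S} [GrpObj G] {a : AlgGrp.Action G X}

theorem exists_act_eq (h : IsIso (lift a.act (snd G X))) (x y : T ⟶ X) :
    ∃ g : T ⟶ G, lift g x ≫ a.act = y := by
  refine ⟨lift y x ≫ inv (lift a.act (snd G X)) ≫ fst G X, ?_⟩
  have e : lift (lift y x ≫ inv (lift a.act (snd G X)) ≫ fst G X) x =
      lift y x ≫ inv (lift a.act (snd G X)) := by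
    ext1
    · simp
    · have : inv (lift a.act (snd G X)) ≫ snd G X = snd X X := by rw [IsIso.inv_comp_eq]; simp
      simp [this]
  have : inv (lift a.act (snd G X)) ≫ a.act = fst X X := by rw [IsIso.inv_comp_eq]; simp
  rw [e, Category.assoc, this, lift_fst]

theorem act_injective (h : IsIso (lift a.act (snd G X))) {g g' : T ⟶ G} {x : T ⟶ X}
    (e : lift g x ≫ a.act = lift g' x ≫ a.act) : g = g' := by
  have e' : lift g x ≫ lift a.act (snd G X) = lift g' x ≫ lift a.act (snd G X) := by
    ext1 <;> simp [e]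
  simpa using congrArg (· ≫ fst G X) ((cancel_mono _).mp e')

theorem isPseudo_of_points (a : AlgGrp.Action G X)
    (h : ∀ (T : Over S) (x y : T ⟶ X), ∃! g : T ⟶ G, lift g x ≫ a.act = y) :
    IsIso (lift a.act (snd G X)) := by
  obtain ⟨g, hg, -⟩ := h (X ⊗ X) (snd X X) (fst X X)
  refine ⟨lift g (snd X X), ?_, ?_⟩
  · ext1
    · rw [Category.assoc, lift_fst, Category.id_comp]
      refine (h (G ⊗ X) (snd G X) a.act).unique ?_ ?_
      · have := lift a.act (snd G X) ≫= hg
        rw [← Category.assoc, comp_lift, lift_snd, lift_fst] at this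
        exact this
      · simp
    · simp
  · ext1
    · simp [hg]
    · simp

end pseudo

section exact

variable {G E P : Over S} [GrpObj G] [GrpObj E] [GrpObj P] {u : G ⟶ E} {v : E ⟶ P}
  {K : Precoverage Scheme.{u}} (hex : NonAbH1.IsExactSeq K u v)

include hex in
theorem exists_mul_u {T : Over S} {a b : T ⟶ E} (h : a ≫ v = b ≫ v) :
    ∃ g : T ⟶ G, a * (g ≫ u) = b := by
  obtain ⟨w, hw₁, hw₂⟩ := hex.2.2.2.1.exists_lift a b h
  refine ⟨w ≫ snd E G, ?_⟩
  rw [← hw₂, ← hw₁]
  have h1 : (E ◁ u) ≫ μ[E] = fst E G * (snd E G ≫ u) := by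
    rw [Hom.mul_def]
    congr 1
  rw [h1, comp_mul, Category.assoc]

include hex in
theorem u_injective {T : Over S} {g g' : T ⟶ G} (h : g ≫ u = g' ≫ u) : g = g' := by
  have key : lift (1 : T ⟶ E) g = lift (1 : T ⟶ E) g' := by
    apply hex.2.2.2.1.hom_ext
    · simp
    · rw [← Category.assoc, ← Category.assoc, lift_whiskerLeft, lift_whiskerLeft, h]
  simpa using congrArg (· ≫ snd E G) key

include hex in
theorem u_comp_v {T : Over S} (g : T ⟶ G) : (g ≫ u) ≫ v = 1 := by
  rw [Category.assoc, hex.2.2.1, comp_one]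

end exact

theorem act_trivialAction {G : Over S} [GrpObj G] {T : Over S} (g x : T ⟶ G) :
    lift g x ≫ (NonAbH1.trivialAction G).act = g * x := (Hom.mul_def g x).symm

end Groth.L27.Torsor
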