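import Groth.Agent.L19.AmitsurLow
import Mathlib.RingTheory.Flat.Basic
import Mathlib.LinearAlgebra.Matrix.Charpoly.LinearMap
import Mathlib.LinearAlgebra.TensorProduct.Quotient
import Mathlib.RingTheory.LocalRing.ResidueField.Ideal
import Mathlib.LinearAlgebra.Dual.Lemmas

/-!
# Amitsur one-cocycles in the additive and in the multiplicative group
-/

set_option autoImplicit false
universe u

open TensorProduct

namespace Groth.L27.Torsor

variable (A B : Type u) [CommRing A] [CommRing B] [Algebra A B] [Module.FaithfullyFlat A B]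

/-- first two factors -/
noncomputable abbrev e12 : B ⊗[A] B →ₐ[A] B ⊗[A] (B ⊗[A] B) :=
  Algebra.TensorProduct.map (AlgHom.id A B) Algebra.TensorProduct.includeLeft

/-- outer factors -/
noncomputable abbrev e13 : B ⊗[A] B →ₐ[A] B ⊗[A] (B ⊗[A] B) :=
  Algebra.TensorProduct.map (AlgHom.id A B) Algebra.TensorProduct.includeRight

/-- last two factors -/
noncomputable abbrev e23 : B ⊗[A] B →ₐ[A] B ⊗[A] (B ⊗[A] B) := Algebra.TensorProduct.includeRight

theorem exists_add_coboundary (c : B ⊗[A] B) (hc : e13 A B c = e23 A B c + e12 A B c) :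
    ∃ b : B, c + (1 : B) ⊗ₜ[A] b = b ⊗ₜ[A] (1 : B) := by
  obtain ⟨v, hv⟩ := (Groth.L19.AmitsurLow.exact_one A B A ((1 : A) ⊗ₜ c)).1 (by
    simp only [LinearMap.add_apply, LinearMap.sub_apply, LinearMap.lTensor_tmul, AlgHom.toLinearMap_apply]
    rw [show (Algebra.TensorProduct.map (AlgHom.id A B) Algebra.TensorProduct.includeRight) c = e13 A B c from rfl,
      hc, TensorProduct.tmul_add, sub_add_eq_add_sub, sub_eq_zero])
  refine ⟨-(TensorProduct.lid A B v), ?_⟩
  have h := congrArg (TensorProduct.lid A (B ⊗[A] B)) hv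
  rw [TensorProduct.lid_tmul, one_smul] at h
  rw [← h]
  clear h hv hc
  induction v using TensorProduct.induction_on with
  | zero => simp
  | tmul a b => simp [TensorProduct.smul_tmul', TensorProduct.neg_tmul, TensorProduct.tmul_neg, tmul_smul]; abel
  | add x y hx hy =>
    simp only [map_add, neg_add, TensorProduct.tmul_add, TensorProduct.add_tmul]
    rw [← hx, ← hy]; abel

theorem mem_of_one_tmul_mem (N : Submodule A B) {n : B}
    (h : (1 : B) ⊗ₜ[A] n ∈ LinearMap.range (N.subtype.lTensor B)) : n ∈ N := by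
  obtain ⟨w, hw⟩ := h
  have h1 : N.mkQ.lTensor B ((1 : B) ⊗ₜ[A] n) = 0 := by
    rw [← hw, ← LinearMap.comp_apply, ← LinearMap.lTensor_comp,
      show N.mkQ ∘ₗ N.subtype = 0 from LinearMap.ext fun x => (Submodule.Quotient.mk_eq_zero N).2 x.2,
      LinearMap.lTensor_zero, LinearMap.zero_apply]
  rw [LinearMap.lTensor_tmul] at h1
  have := Module.FaithfullyFlat.tensorProduct_mk_injective (A := A) (B := B) (B ⧸ N)
    (show TensorProduct.mk A B _ 1 (N.mkQ n) = TensorProduct.mk A B _ 1 0 by simpa using h1)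
  exact (Submodule.Quotient.mk_eq_zero N).1 this

omit [Module.FaithfullyFlat A B] in
theorem mul_mem_range (N : Submodule A B) (x : B) {w : B ⊗[A] B}
    (hw : w ∈ LinearMap.range (N.subtype.lTensor B)) :
    (x ⊗ₜ[A] (1 : B)) * w ∈ LinearMap.range (N.subtype.lTensor B) := by
  obtain ⟨z, rfl⟩ := hw
  induction z using TensorProduct.induction_on with
  | zero => simp
  | tmul b n => exact ⟨(x * b) ⊗ₜ n, by simp⟩
  | add p q hp hq => rw [map_add, mul_add]; exact add_mem hp hq

/-- A multiplicative one-cocycle is a coboundary locally on the base. -/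
theorem exists_unit_coboundary (c : (B ⊗[A] B)ˣ)
    (hc : e13 A B (c : B ⊗[A] B) = e23 A B c * e12 A B c) (p : Ideal A) [hp : p.IsPrime] :
    ∃ (m : B) (s : A), s ∉ p ∧ (c : B ⊗[A] B) * (m ⊗ₜ[A] (1 : B)) = (1 : B) ⊗ₜ[A] m ∧
      ∃ β : B, m * β = algebraMap A B s := by
  classical
  let ψ : B →ₗ[A] B ⊗[A] B :=
    LinearMap.mulLeft A (c : B ⊗[A] B) ∘ₗ (Algebra.TensorProduct.includeLeft : B →ₐ[A] B ⊗[A] B).toLinearMap -
      (Algebra.TensorProduct.includeRight : B →ₐ[A] B ⊗[A] B).toLinearMap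
  let P := LinearMap.ker ψ
  have hP : ∀ n ∈ P, (c : B ⊗[A] B) * (n ⊗ₜ[A] (1 : B)) = (1 : B) ⊗ₜ[A] n := fun n hn => by
    simpa [P, ψ, sub_eq_zero] using hn
  have hψ : ∀ w, ψ.lTensor B w = e23 A B c * e12 A B w - e13 A B w := by
    intro w
    induction w using TensorProduct.induction_on with
    | zero => simp
    | tmul x y => simp [ψ]
    | add p q hp hq => simp only [map_add, mul_add, hp, hq]; abel
  have hex : Function.Exact (P.subtype.lTensor B) (ψ.lTensor B) :=
    Module.Flat.lTensor_exact B (LinearMap.exact_subtype_ker_map ψ)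
  obtain ⟨w, hw⟩ := (hex (c : B ⊗[A] B)).1 (by rw [hψ, hc, sub_self])
  obtain ⟨T, hT⟩ := TensorProduct.exists_finset w
  have hcT : (c : B ⊗[A] B) = ∑ i ∈ T, i.1 ⊗ₜ[A] (i.2 : B) := by rw [← hw, hT]; simp
  have hμ : Algebra.TensorProduct.lmul' A (S := B) (c : B ⊗[A] B) = 1 := by
    let μ3 : B ⊗[A] (B ⊗[A] B) →ₐ[A] B :=
      (Algebra.TensorProduct.lmul' A).comp (Algebra.TensorProduct.map (AlgHom.id A B) (Algebra.TensorProduct.lmul' A))
    have h1 : ∀ z : B ⊗[A] B, μ3 (e12 A B z) = Algebra.TensorProduct.lmul' A z ∧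
        μ3 (e13 A B z) = Algebra.TensorProduct.lmul' A z ∧ μ3 (e23 A B z) = Algebra.TensorProduct.lmul' A z := by
      intro z
      induction z using TensorProduct.induction_on with
      | zero => simp
      | tmul x y => simp [μ3]
      | add p q hp hq => simp only [map_add, hp.1, hp.2.1, hp.2.2, hq.1, hq.2.1, hq.2.2, and_self]
    have h2 := congrArg μ3 hc
    rw [map_mul, (h1 _).1, (h1 _).2.1, (h1 _).2.2] at h2
    exact ((c.isUnit.map (Algebra.TensorProduct.lmul' A (S := B))).mul_left_cancel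
      ((_root_.mul_one _).trans h2)).symm
  let N : Submodule A B := Submodule.span A ((T.image fun i => (i.2 : B)) : Set B)
  have hgen : ∀ i ∈ T, (i.2 : B) ∈ N := fun i hi =>
    Submodule.subset_span (Finset.mem_coe.2 (Finset.mem_image.2 ⟨i, hi, rfl⟩))
  have hNP : N ≤ P := Submodule.span_le.2 (by
    intro x hx
    obtain ⟨i, -, rfl⟩ := Finset.mem_image.1 (Finset.mem_coe.1 hx)
    exact i.2.2)
  have hcN : (c : B ⊗[A] B) ∈ LinearMap.range (N.subtype.lTensor B) := by
    rw [hcT]
    exact Submodule.sum_mem _ fun i hi => ⟨i.1 ⊗ₜ ⟨_, hgen i hi⟩, rfl⟩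
  let pB : Submodule A B := p • ⊤
  have hNp : ∀ n ∈ N, n ∈ pB → n ∈ p • N := by
    intro n hn hnp
    apply mem_of_one_tmul_mem A B
    rw [← hP n (hNP hn), mul_comm]
    clear hn
    induction hnp using Submodule.smul_induction_on' with
    | smul a ha x _ =>
      obtain ⟨z, hz⟩ := mul_mem_range A B N x hcN
      rw [← TensorProduct.smul_tmul', smul_mul_assoc, ← hz]
      clear hz
      induction z using TensorProduct.induction_on with
      | zero => simp
      | tmul b m => exact ⟨b ⊗ₜ ⟨a • (m : B), Submodule.smul_mem_smul ha m.2⟩, by simp [TensorProduct.tmul_smul]⟩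
      | add p q hp hq => rw [map_add, smul_add]; exact add_mem hp hq
    | add x _ y _ hx hy => rw [TensorProduct.add_tmul, add_mul]; exact add_mem hx hy
  have hone : (1 : B) = ∑ i ∈ T, i.1 * (i.2 : B) := by
    rw [← hμ, hcT]; simp
  have hmulB : ∀ x y : B, y ∈ pB → x * y ∈ pB := fun x y hy =>
    (Submodule.map_le_iff_le_comap.1 ((Submodule.map_smul'' p ⊤ (LinearMap.mulLeft A x)).le.trans
      (Submodule.smul_mono le_rfl le_top))) hy
  obtain ⟨i₀, hi₀, hm⟩ : ∃ i ∈ T, (i.2 : B) ∉ pB := by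
    by_contra! hall
    have h1 : (1 : B) ∈ pB := by
      rw [hone]
      exact Submodule.sum_mem _ fun i hi => hmulB _ _ (hall i hi)
    exact ((Module.FaithfullyFlat.iff_flat_and_proper_ideal A B).1 inferInstance).2 p hp.ne_top
      (top_unique fun x _ => by have := hmulB x 1 h1; rwa [_root_.mul_one] at this)
  let m : B := i₀.2
  have hmN : m ∈ N := hgen i₀ hi₀
  let K := p.ResidueField
  let ι : B →ₗ[A] K ⊗[A] B := TensorProduct.mk A K B 1
  have hker : ∀ x : B, ι x = 0 → x ∈ pB := by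
    intro x hx
    let j : (A ⧸ p) →ₗ[A] K := (IsScalarTower.toAlgHom A (A ⧸ p) K).toLinearMap
    have hj : Function.Injective j := p.injective_algebraMap_quotient_residueField
    have h2 : Function.Injective (j.rTensor B) := Module.Flat.rTensor_preserves_injective_linearMap _ hj
    have h3 : (1 : A ⧸ p) ⊗ₜ[A] x = 0 := h2 (by rw [LinearMap.rTensor_tmul, map_zero]; simpa [ι, j] using hx)
    have h4 := congrArg (TensorProduct.quotTensorEquivQuotSMul B p) h3
    rw [show (1 : A ⧸ p) = Ideal.Quotient.mk p 1 from rfl, map_zero,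
      TensorProduct.quotTensorEquivQuotSMul_mk_tmul, one_smul] at h4
    exact (Submodule.Quotient.mk_eq_zero _).1 h4
  obtain ⟨φ, hφ⟩ := Module.Projective.exists_dual_ne_zero K (x := ι m) (fun h => hm (hker m h))
  let φ' : B →ₗ[A] K := (φ.restrictScalars A) ∘ₗ ι
  let L : B ⊗[A] B →ₗ[A] K ⊗[A] B := φ'.rTensor B
  have hstep : ∀ n ∈ N, ∃ t : A, t ∉ p ∧ ∃ a : A, t • n - a • m ∈ p • N := by
    intro n hn
    have hsym : m ⊗ₜ[A] n = n ⊗ₜ[A] m := by
      have e1 := hP n (hNP hn)
      have e2 := hP m (hNP hmN)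
      calc m ⊗ₜ[A] n = (m ⊗ₜ[A] (1 : B)) * ((1 : B) ⊗ₜ[A] n) := by simp
        _ = (n ⊗ₜ[A] (1 : B)) * ((c : B ⊗[A] B) * (m ⊗ₜ[A] (1 : B))) := by rw [← e1]; ring
        _ = n ⊗ₜ[A] m := by rw [e2]; simp
    have h1 := congrArg L hsym
    simp only [L, LinearMap.rTensor_tmul] at h1
    have hs : ∀ (k : K) (x : B), k ⊗ₜ[A] x = k • ι x := fun k x => by simp [ι, TensorProduct.smul_tmul']
    rw [hs, hs] at h1
    obtain ⟨lam, hlam⟩ : ∃ l : K, ι n = l • ι m :=
      ⟨(φ' m)⁻¹ * φ' n, by rw [mul_smul, ← h1, smul_smul, inv_mul_cancel₀ (show φ' m ≠ 0 from hφ), one_smul]⟩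
    obtain ⟨a, t, ht, rfl⟩ := IsFractionRing.div_surjective (A := A ⧸ p) lam
    obtain ⟨a, rfl⟩ := Ideal.Quotient.mk_surjective a
    obtain ⟨t, rfl⟩ := Ideal.Quotient.mk_surjective t
    have htp : t ∉ p := fun h => by simp [Ideal.Quotient.eq_zero_iff_mem.2 h] at ht
    refine ⟨t, htp, a, hNp _ (sub_mem (N.smul_mem _ hn) (N.smul_mem _ hmN)) (hker _ ?_)⟩
    have ht' : algebraMap A K t ≠ 0 := fun h => htp (by
      rwa [Ideal.algebraMap_residueField_eq_zero] at h)
    rw [map_sub, map_smul, map_smul, hlam, algebra_compatible_smul K t, algebra_compatible_smul K a,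
      smul_smul, ← sub_smul]
    rw [show algebraMap (A ⧸ p) K (Ideal.Quotient.mk p a) = algebraMap A K a from
      (IsScalarTower.algebraMap_apply A (A ⧸ p) K a).symm,
      show algebraMap (A ⧸ p) K (Ideal.Quotient.mk p t) = algebraMap A K t from
      (IsScalarTower.algebraMap_apply A (A ⧸ p) K t).symm, mul_div_cancel₀ _ ht', sub_self, zero_smul]
  choose! t ht a ha using hstep
  let u : A := ∏ i ∈ T, t i.2
  have hu : u ∉ p := fun h => by
    obtain ⟨i, hi, hti⟩ := (hp.prod_mem_iff).1 h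
    exact ht _ (hgen i hi) hti
  have hmain : ∀ n ∈ N, u • n ∈ Submodule.span A {m} ⊔ p • N := by
    intro n hn
    have : N ≤ (Submodule.span A {m} ⊔ p • N).comap (LinearMap.lsmul A B u) := Submodule.span_le.2 (by
      intro x hx
      obtain ⟨i, hi, rfl⟩ := Finset.mem_image.1 (Finset.mem_coe.1 hx)
      rw [SetLike.mem_coe, Submodule.mem_comap, LinearMap.lsmul_apply]
      obtain ⟨d, hd⟩ : t i.2 ∣ u := Finset.dvd_prod_of_mem _ hi
      rw [hd, mul_comm, mul_smul, show t i.2 • (i.2 : B) = a i.2 • m + (t i.2 • (i.2 : B) - a i.2 • m) by abel]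
      exact Submodule.smul_mem _ _ (add_mem (Submodule.mem_sup_left (Submodule.smul_mem _ _ (Submodule.mem_span_singleton_self m)))
        (Submodule.mem_sup_right (ha _ (hgen i hi)))))
    exact this hn
  let Q := N ⧸ (Submodule.span A {(⟨m, hmN⟩ : N)})
  have : Module.Finite A N := Module.Finite.of_fg (Submodule.fg_span (Finset.finite_toSet _))
  have hrange : LinearMap.range (LinearMap.lsmul A Q u) ≤ p • ⊤ := by
    rintro _ ⟨q, rfl⟩
    obtain ⟨n, rfl⟩ := Submodule.mkQ_surjective _ q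
    obtain ⟨y, hy, z, hz, hyz⟩ := Submodule.mem_sup.1 (hmain n n.2)
    obtain ⟨r, rfl⟩ := Submodule.mem_span_singleton.1 hy
    have hz' : z ∈ (p • (⊤ : Submodule A N)).map N.subtype := by
      rwa [Submodule.map_smul'', Submodule.map_top, Submodule.range_subtype]
    obtain ⟨z', hz', rfl⟩ := hz'
    have he : u • n = r • (⟨m, hmN⟩ : N) + z' := Subtype.ext hyz.symm
    rw [LinearMap.lsmul_apply, ← map_smul, he, map_add, map_smul,
      (Submodule.Quotient.mk_eq_zero _).2 (Submodule.mem_span_singleton_self _) |> fun h =>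
        show Submodule.mkQ (Submodule.span A {(⟨m, hmN⟩ : N)}) ⟨m, hmN⟩ = 0 from h, smul_zero, zero_add]
    refine (Submodule.map_smul'' p ⊤ (Submodule.mkQ _)).le.trans ?_ ⟨z', hz', rfl⟩
    rw [Submodule.map_top, Submodule.range_mkQ]
  obtain ⟨f, hf1, -, hf2, hf3⟩ :=
    LinearMap.exists_monic_and_natDegree_eq_and_coeff_mem_pow_and_aeval_eq_zero A (LinearMap.lsmul A Q u) p hrange
  let s : A := f.eval u
  have hs : s ∉ p := by
    have h1 : (f.map (Ideal.Quotient.mk p)) = Polynomial.X ^ f.natDegree := by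
      ext k
      rw [Polynomial.coeff_map, Polynomial.coeff_X_pow]
      split_ifs with h
      · rw [h, hf1.coeff_natDegree, map_one]
      · rcases lt_or_gt_of_ne h with h | h
        · exact Ideal.Quotient.eq_zero_iff_mem.2 (Ideal.pow_le_self (by omega) (hf2 k))
        · rw [Polynomial.coeff_eq_zero_of_natDegree_lt h, map_zero]
    intro h
    apply hu
    rw [← Ideal.Quotient.eq_zero_iff_mem] at h ⊢
    rw [← Polynomial.eval₂_at_apply, ← Polynomial.eval_map, h1, Polynomial.eval_pow, Polynomial.eval_X] at h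
    exact eq_zero_of_pow_eq_zero h
  refine ⟨m, s, hs, hP m (hNP hmN), ?_⟩
  have hsQ : ∀ n ∈ N, ∃ r : A, r • m = s • n := by
    intro n hn
    have h1 := LinearMap.congr_fun hf3 (Submodule.mkQ _ (⟨n, hn⟩ : N))
    have h2 : ∀ q : Q, Polynomial.aeval (LinearMap.lsmul A Q u) f q = s • q := by
      intro q
      rw [show LinearMap.lsmul A Q u = algebraMap A (Module.End A Q) u from rfl,
        Polynomial.aeval_algebraMap_apply_eq_algebraMap_eval]
      rfl
    rw [h2, LinearMap.zero_apply, ← map_smul] at h1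
    obtain ⟨r, hr⟩ := Submodule.mem_span_singleton.1 ((Submodule.Quotient.mk_eq_zero _).1 h1)
    exact ⟨r, congrArg Subtype.val hr⟩
  choose! r hr using hsQ
  refine ⟨∑ i ∈ T, r i.2 • i.1, ?_⟩
  rw [Finset.mul_sum, Algebra.algebraMap_eq_smul_one, hone, Finset.smul_sum]
  refine Finset.sum_congr rfl fun i hi => ?_
  rw [mul_smul_comm, mul_comm, ← mul_smul_comm, hr _ (hgen i hi), mul_smul_comm]

end Groth.L27.Torsor
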