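import Groth.Agent.L27.Torsor.Cov
import Groth.Agent.L09.TorsorSch
import Mathlib.CategoryTheory.Limits.Constructions.Over.Connected

/-!
# Exactness of the torsor sequence of a short exact sequence of group schemes
-/

set_option autoImplicit false
universe u

open CategoryTheory CategoryTheory.Limits MonoidalCategory CartesianMonoidalCategory MonObj GrpObj AlgebraicGeometry

namespace Groth.L27.Torsor

variable {S : Scheme.{u}} {G G' G'' : Over S} [GrpObj G] [GrpObj G'] [GrpObj G'']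
  {u : G' ⟶ G} {v : G ⟶ G''}

theorem pushTrivial_of_isPullbackTorsor [IsCommMonObj G] {P : Over S} {a : AlgGrp.Action G' P}
    {f : 𝟙_ (Over S) ⟶ G''} {i : P ⟶ G} (h : NonAbH1.IsPullbackTorsor u v f i a) :
    NonAbH1.IsPushforwardAlongSch u a (NonAbH1.trivialAction G) := by
  obtain ⟨-, -, -, he⟩ := h
  refine ⟨i⁻¹, ?_⟩
  have := he _ (fst G' P) (snd G' P)
  rw [lift_fst_snd, Category.id_comp] at this
  rw [comp_inv, this, act_trivialAction, comp_inv, _root_.mul_inv_rev, _root_.inv_inv]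

theorem exists_isPullbackTorsor [IsCommMonObj G]
    (hex : NonAbH1.IsExactSeq Scheme.fpqcPrecoverage u v)
    (Q : NonAbH1.TorsorSch G' Scheme.fpqcPrecoverage)
    (h : NonAbH1.IsPushforwardAlongSch u Q.act (NonAbH1.trivialAction G)) :
    ∃ (f : 𝟙_ (Over S) ⟶ G'') (i : Q.X ⟶ G), NonAbH1.IsPullbackTorsor u v f i Q.act := by
  obtain ⟨hu, hv, -, -, -⟩ := id hex
  obtain ⟨φ, hφ⟩ := h
  rw [act_trivialAction] at hφ
  have hQ : Cov (toUnit Q.X) := cov_toUnit Q.isTorsor.2
  have hps : IsIso (lift Q.act.act (snd G' Q.X)) := Q.isTorsor.1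
  have hi : ∀ {T : Over S} (g : T ⟶ G') (p : T ⟶ Q.X),
      lift g p ≫ Q.act.act ≫ φ⁻¹ = (p ≫ φ⁻¹) * (g ≫ u)⁻¹ := by
    intro T g p
    simp only [comp_inv, hφ, comp_mul, ← Category.assoc, lift_fst, lift_snd, _root_.mul_inv_rev]
  have hdesc : ∀ (T : Over S) (x y : T ⟶ Q.X), x ≫ toUnit Q.X = y ≫ toUnit Q.X →
      x ≫ (φ⁻¹ ≫ v) = y ≫ (φ⁻¹ ≫ v) := by
    intro T x y _
    obtain ⟨g, rfl⟩ := exists_act_eq hps x y
    rw [← Category.assoc, ← Category.assoc, Category.assoc (lift g x), hi, mul_comp, inv_comp,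
      u_comp_v hex, _root_.inv_one, _root_.mul_one]
  obtain ⟨f, hf⟩ := descend hQ _ hdesc
  have hinj : ∀ {T : Over S} (x y : T ⟶ Q.X), x ≫ φ⁻¹ = y ≫ φ⁻¹ → x = y := by
    intro T x y e
    obtain ⟨g, rfl⟩ := exists_act_eq hps x y
    have h1 : g ≫ u = (1 : T ⟶ G') ≫ u := by
      rw [one_comp]
      have e' := e.trans ((Category.assoc _ _ _).trans (hi g x))
      simpa using e'
    rw [u_injective hex h1, Groth.L25.Actions.one_act]
  have hlift : ∀ (s : PullbackCone v f), ∃ l : s.pt ⟶ Q.X, l ≫ φ⁻¹ = s.fst := by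
    intro s
    let T' := Q.X ⊗ s.pt
    have e : (fst Q.X s.pt ≫ φ⁻¹) ≫ v = (snd Q.X s.pt ≫ s.fst) ≫ v := by
      rw [Category.assoc, ← hf, Category.assoc, s.condition, ← Category.assoc, ← Category.assoc]
      congr 1
      exact Subsingleton.elim _ _
    obtain ⟨g, hg⟩ := exists_mul_u hex e
    let q0 : T' ⟶ Q.X := lift g⁻¹ (fst Q.X s.pt) ≫ Q.act.act
    have hq0 : q0 ≫ φ⁻¹ = snd Q.X s.pt ≫ s.fst := by
      rw [Category.assoc, hi, inv_comp, _root_.inv_inv, hg]
    obtain ⟨l, hl⟩ := descend (cov_snd hQ s.pt) q0 (fun W x y hxy => hinj _ _ (by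
      rw [Category.assoc x, Category.assoc y, hq0, ← Category.assoc, ← Category.assoc, hxy]))
    refine ⟨l, cancel (cov_snd hQ s.pt) ?_⟩
    rw [← Category.assoc, hl, hq0]
  choose l hl using hlift
  exact ⟨f, φ⁻¹, hu, hv, IsPullback.of_isLimit' ⟨hf.symm⟩
    (PullbackCone.IsLimit.mk _ l hl (fun s => Subsingleton.elim _ _)
      (fun s m h₁ _ => hinj _ _ (h₁.trans (hl s).symm))), fun T g p => hi g p⟩

theorem pushTrivial_of_push_from_kernel (hex : NonAbH1.IsExactSeq Scheme.fpqcPrecoverage u v)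
    (P : NonAbH1.TorsorSch G Scheme.fpqcPrecoverage) (Q : NonAbH1.TorsorSch G' Scheme.fpqcPrecoverage)
    (h : NonAbH1.IsPushforwardAlongSch u Q.act P.act) :
    NonAbH1.IsPushforwardAlongSch v P.act (NonAbH1.trivialAction G'') := by
  obtain ⟨hu, hv, -, -, -⟩ := id hex
  obtain ⟨f, hf⟩ := h
  let a := P.act
  have hps : IsIso (lift a.act (snd G P.X)) := P.isTorsor.1
  have hf' : ∀ {T : Over S} (g : T ⟶ G') (q : T ⟶ Q.X),
      (lift g q ≫ Q.act.act) ≫ f = lift (g ≫ u) (q ≫ f) ≫ a.act := by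
    intro T g q
    rw [Category.assoc, hf, ← Category.assoc, comp_lift, ← Category.assoc, ← Category.assoc, lift_fst, lift_snd]
  let m : G ⊗ Q.X ⟶ P.X := (G ◁ f) ≫ a.act
  have : IsIso (Groth.L09.TorsorSch.trivMap a f) := Groth.L09.TorsorSch.isIso_trivMap a hps f
  have hm : Cov m := by
    have := Cov.comp_iso (Groth.L09.TorsorSch.trivMap a f) (cov_fst (cov_toUnit Q.isTorsor.2) P.X)
    rwa [show Groth.L09.TorsorSch.trivMap a f ≫ fst P.X Q.X = m by
      simp [Groth.L09.TorsorSch.trivMap, m]] at this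
  have hpm : ∀ {T : Over S} (x : T ⟶ G ⊗ Q.X),
      x ≫ m = lift (x ≫ fst G Q.X) ((x ≫ snd G Q.X) ≫ f) ≫ a.act := by
    intro T x
    rw [← Category.assoc]
    congr 1
    ext1 <;> simp
  obtain ⟨ψ, hψ⟩ := descend hm (fst G Q.X ≫ v) (fun T x y hxy => by
    rw [hpm, hpm] at hxy
    obtain ⟨g, hg⟩ := exists_act_eq (a := Q.act) Q.isTorsor.1 (x ≫ snd G Q.X) (y ≫ snd G Q.X)
    rw [← hg, hf', ← Groth.L25.Actions.mul_act] at hxy
    have := act_injective hps hxy
    rw [← Category.assoc, ← Category.assoc, this, mul_comp, u_comp_v hex, _root_.mul_one])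
  refine ⟨ψ, ?_⟩
  rw [act_trivialAction]
  refine cancel (Cov.whiskerLeft G hm) ?_
  have e1 : (G ◁ m) ≫ a.act = lift (fst G (G ⊗ Q.X) * (snd G (G ⊗ Q.X) ≫ fst G Q.X))
      (snd G (G ⊗ Q.X) ≫ snd G Q.X) ≫ m := by
    rw [hpm]
    simp only [lift_fst, lift_snd, Category.assoc]
    rw [Groth.L25.Actions.mul_act]
    congr 1
    ext1
    · simp
    · rw [whiskerLeft_snd, lift_snd, hpm, Category.assoc]
  rw [← Category.assoc, e1, Category.assoc, hψ, comp_mul, ← Category.assoc, lift_fst, mul_comp]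
  simp only [← Category.assoc, whiskerLeft_fst, whiskerLeft_snd]
  simp only [Category.assoc, hψ]

theorem exists_kernel_torsor (hex : NonAbH1.IsExactSeq Scheme.fpqcPrecoverage u v)
    (P : NonAbH1.TorsorSch G Scheme.fpqcPrecoverage)
    (h : NonAbH1.IsPushforwardAlongSch v P.act (NonAbH1.trivialAction G'')) :
    ∃ Q : NonAbH1.TorsorSch G' Scheme.fpqcPrecoverage, NonAbH1.IsPushforwardAlongSch u Q.act P.act := by
  obtain ⟨hu, hv, -, -, hlt⟩ := id hex
  obtain ⟨ψ, hψ⟩ := h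
  rw [act_trivialAction] at hψ
  let a := P.act
  have hps : IsIso (lift a.act (snd G P.X)) := P.isTorsor.1
  have hψ' : ∀ {T : Over S} (g : T ⟶ G) (p : T ⟶ P.X),
      (lift g p ≫ a.act) ≫ ψ = (g ≫ v) * (p ≫ ψ) := by
    intro T g p
    simp only [Category.assoc]
    rw [hψ, comp_mul]
    simp only [← Category.assoc, lift_fst, lift_snd]
  let Z := pullback ψ η[G'']
  let j : Z ⟶ P.X := pullback.fst ψ η[G'']
  have hj : ∀ {T : Over S} (x : T ⟶ Z), (x ≫ j) ≫ ψ = 1 := by
    intro T x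
    rw [Category.assoc, pullback.condition, ← Category.assoc, Hom.one_def]
    congr 1
    exact Subsingleton.elim _ _
  have hmono : ∀ {T : Over S} {x y : T ⟶ Z}, x ≫ j = y ≫ j → x = y := fun h =>
    pullback.hom_ext h (Subsingleton.elim _ _)
  have hex' : ∀ {T : Over S} (p : T ⟶ P.X), p ≫ ψ = 1 → ∃ x : T ⟶ Z, x ≫ j = p := fun p hp =>
    ⟨pullback.lift p (toUnit _) (by rw [hp, Hom.one_def]), pullback.lift_fst _ _ _⟩
  obtain ⟨act, hact⟩ := hex' (lift (fst G' Z ≫ u) (snd G' Z ≫ j) ≫ a.act)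
    (by rw [hψ', u_comp_v hex, hj, _root_.mul_one])
  have hact' : ∀ {T : Over S} (g : T ⟶ G') (x : T ⟶ Z),
      (lift g x ≫ act) ≫ j = lift (g ≫ u) (x ≫ j) ≫ a.act := by
    intro T g x
    rw [Category.assoc, hact, ← Category.assoc, comp_lift, ← Category.assoc, ← Category.assoc, lift_fst, lift_snd]
  let b : AlgGrp.Action G' Z :=
    { act := act
      one_act := by
        refine hmono ?_
        have e : η[G'] ▷ Z = lift (1 : 𝟙_ (Over S) ⊗ Z ⟶ G') (snd (𝟙_ (Over S)) Z) := by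
          ext1
          · simp only [whiskerRight_fst, lift_fst, Hom.one_def]
            congr 1
          · simp
        rw [e, hact', one_comp, Groth.L25.Actions.one_act, leftUnitor_hom]
      mul_act := by
        refine hmono ?_
        let g : (G' ⊗ G') ⊗ Z ⟶ G' := fst _ _ ≫ fst _ _
        let k : (G' ⊗ G') ⊗ Z ⟶ G' := fst _ _ ≫ snd _ _
        have e1 : μ[G'] ▷ Z = lift (g * k) (snd _ Z) := by
          ext1
          · simp only [whiskerRight_fst, lift_fst, g, k, ← comp_mul]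
            rw [Hom.mul_def, lift_fst_snd, Category.id_comp]
          · simp
        have e2 : (α_ G' G' Z).hom ≫ (G' ◁ act) = lift g (lift k (snd _ Z) ≫ act) := by
          ext1
          · simp [g]
          · rw [Category.assoc, whiskerLeft_snd, lift_snd, ← Category.assoc]
            congr 1
            ext1 <;> simp [k]
        rw [e1, hact', mul_comp, Groth.L25.Actions.mul_act, ← Category.assoc (α_ G' G' Z).hom, e2, hact',
          hact'] }
  refine ⟨⟨Z, b, isPseudo_of_points b (fun T x y => ?_), ?_⟩, j, hact⟩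
  · obtain ⟨g, hg⟩ := exists_act_eq hps (x ≫ j) (y ≫ j)
    have hgv : g ≫ v = (1 : T ⟶ G) ≫ v := by
      have := hψ' g (x ≫ j)
      rw [hg, hj, hj, _root_.mul_one] at this
      rw [one_comp, ← this]
    obtain ⟨g', hg'⟩ := exists_mul_u hex hgv.symm
    rw [_root_.one_mul] at hg'
    refine ⟨g', hmono (by rw [hact', hg', hg]), fun k hk => u_injective hex (act_injective hps (x := x ≫ j) ?_)⟩
    rw [← hact', hk, hg', hg]
  · obtain ⟨-, R, hR, hsP⟩ := P.isTorsor
    obtain ⟨I, Tf, f, rfl⟩ := R.exists_eq_ofArrows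
    obtain ⟨Rv, hRv, hsv⟩ := hlt
    obtain ⟨κ, Vf, c, rfl⟩ := Rv.exists_eq_ofArrows
    choose p hp using fun i => hsP (f i) (Presieve.ofArrows.mk i)
    choose s hs using fun k => hsv (c k) (Presieve.ofArrows.mk k)
    let p' : ∀ i, Over.mk (f i) ⟶ P.X := fun i => Over.homMk (p i) (hp i)
    let w : ∀ i, Tf i ⟶ G''.left := fun i => (p' i ≫ ψ).left
    have hcomp := Precoverage.comp_mem_coverings (J := Scheme.fpqcPrecoverage) f hR
      (fun i k => pullback.fst (w i) (c k))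
      (fun i => Precoverage.mem_coverings_of_isPullback c hRv (w i) _ _
        (fun k => IsPullback.of_hasPullback (w i) (c k)))
    refine ⟨_, hcomp, ?_⟩
    rintro W h ⟨⟨i, k⟩⟩
    let T' : Over S := Over.mk (pullback.fst (w i) (c k) ≫ f i)
    let q : T' ⟶ P.X := (Over.homMk (pullback.fst (w i) (c k)) : T' ⟶ Over.mk (f i)) ≫ p' i
    let g : T' ⟶ G := Over.homMk (pullback.snd (w i) (c k) ≫ s k) (by
      have h1 : s k ≫ v.left = c k := hs k
      change (_ ≫ s k) ≫ G.hom = _ ≫ f i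
      rw [Category.assoc, ← Over.w v, ← Category.assoc (s k), h1, ← Category.assoc,
        ← pullback.condition, Category.assoc]
      exact congrArg (pullback.fst (w i) (c k) ≫ ·) (Over.w (p' i ≫ ψ)))
    have hgv : g ≫ v = q ≫ ψ := by
      ext1
      have h1 : s k ≫ v.left = c k := hs k
      change (_ ≫ s k) ≫ v.left = (_ ≫ (p' i).left) ≫ ψ.left
      rw [Category.assoc, h1, ← pullback.condition, Category.assoc]
      rfl
    obtain ⟨x, -⟩ := hex' (lift g⁻¹ q ≫ a.act) (by rw [hψ', inv_comp, hgv, _root_.inv_mul_cancel])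
    exact ⟨x.left, Over.w x⟩

end Groth.L27.Torsor
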