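import Groth.Agent.L27.Torsor.Cov
import Groth.Agent.L27.Torsor.UnitCocycle
import Groth.Agent.L09.TorsorSch
import Groth.Agent.L25.GaPts
import Groth.Prelude.Def_GmPts
import Mathlib.AlgebraicGeometry.Morphisms.Flat
import Mathlib.AlgebraicGeometry.Morphisms.Affine
import Mathlib.AlgebraicGeometry.Sites.Fpqc
import Mathlib.LinearAlgebra.SymmetricAlgebra.Basis
import Mathlib.RingTheory.Localization.Away.Basic

/-!
# Torsors under the additive and the multiplicative group are Zariski locally trivial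
-/

set_option autoImplicit false
set_option backward.isDefEq.respectTransparency.types false
set_option linter.style.haveILetI false
universe u

open CategoryTheory CategoryTheory.Limits MonoidalCategory CartesianMonoidalCategory MonObj AlgebraicGeometry
open scoped TensorProduct

noncomputable section

namespace Groth.L27.Torsor

variable {S : Scheme.{u}} {A : CommRingCat.{u}} (g : Spec A ⟶ S)

/-- The `S`-scheme attached to an `A`-algebra. -/
abbrev sp (C : Type u) [CommRing C] [Algebra A C] : Over S :=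
  Over.mk (Spec.map (CommRingCat.ofHom (algebraMap A C)) ≫ g)

/-- The morphism of a map of algebras. -/
def spMap {C D : Type u} [CommRing C] [Algebra A C] [CommRing D] [Algebra A D] (φ : C →ₐ[A] D) :
    sp g D ⟶ sp g C :=
  Over.homMk (Spec.map (CommRingCat.ofHom φ.toRingHom)) (by
    show Spec.map _ ≫ Spec.map _ ≫ g = _
    rw [← Category.assoc, ← Spec.map_comp, ← CommRingCat.ofHom_comp]
    exact congrArg (fun h => Spec.map (CommRingCat.ofHom h) ≫ g) φ.comp_algebraMap)

variable {C D E : Type u} [CommRing C] [Algebra A C] [CommRing D] [Algebra A D] [CommRing E] [Algebra A E]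

theorem spMap_comp (φ : C →ₐ[A] D) (ψ : D →ₐ[A] E) : spMap g ψ ≫ spMap g φ = spMap g (ψ.comp φ) := by
  ext1
  show Spec.map _ ≫ Spec.map _ = Spec.map _
  rw [← Spec.map_comp, ← CommRingCat.ofHom_comp]
  rfl

theorem exists_sp_lift (B : Type u) [CommRing B] [Algebra A B] {W : Over S} (a b : W ⟶ sp g B)
    (h : a ≫ spMap g (Algebra.ofId A B) = b ≫ spMap g (Algebra.ofId A B)) :
    ∃ l : W ⟶ sp g (B ⊗[A] B),
      l ≫ spMap g Algebra.TensorProduct.includeLeft = a ∧ l ≫ spMap g Algebra.TensorProduct.includeRight = b := by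
  have h' : a.left ≫ Spec.map (CommRingCat.ofHom (algebraMap A B)) =
      b.left ≫ Spec.map (CommRingCat.ofHom (algebraMap A B)) := congrArg CommaMorphism.left h
  let l₀ : W.left ⟶ Spec (CommRingCat.of (B ⊗[A] B)) :=
    pullback.lift a.left b.left h' ≫ (pullbackSpecIso A B B).hom
  have hl : l₀ ≫ Spec.map (CommRingCat.ofHom (Algebra.TensorProduct.includeLeftRingHom (R := A) (A := B) (B := B))) = a.left := by
    rw [Category.assoc, ← pullbackSpecIso_inv_fst, Iso.hom_inv_id_assoc, pullback.lift_fst]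
  have hr : l₀ ≫ Spec.map (CommRingCat.ofHom
      ((Algebra.TensorProduct.includeRight : B →ₐ[A] B ⊗[A] B) : B →+* B ⊗[A] B)) = b.left := by
    rw [Category.assoc, ← pullbackSpecIso_inv_snd, Iso.hom_inv_id_assoc, pullback.lift_snd]
  refine ⟨Over.homMk l₀ ?_, ?_, ?_⟩
  · show l₀ ≫ Spec.map _ ≫ g = W.hom
    have h5 : Spec.map (CommRingCat.ofHom (Algebra.TensorProduct.includeLeftRingHom (R := A) (A := B) (B := B))) ≫
        Spec.map (CommRingCat.ofHom (algebraMap A B)) ≫ g =
        Spec.map (CommRingCat.ofHom (algebraMap A (B ⊗[A] B))) ≫ g := by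
      rw [← Category.assoc, ← Spec.map_comp, ← CommRingCat.ofHom_comp]
    rw [← Over.w a, ← hl, ← h5, Category.assoc]
    rfl
  · ext1; exact hl
  · ext1; exact hr

/-- The difference cochain of a point of a torsor, and when it gives a section. -/
theorem exists_section_of_coboundary {G X : Over S} [GrpObj G] {a : AlgGrp.Action G X}
    {B : Type u} [CommRing B] [Algebra A B] [Module.FaithfullyFlat A B]
    (y : sp g B ⟶ X)
    (h : sp g (B ⊗[A] B) ⟶ G)
    (hy : lift h (spMap g Algebra.TensorProduct.includeLeft ≫ y) ≫ a.act =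
      spMap g Algebra.TensorProduct.includeRight ≫ y)
    (b : sp g B ⟶ G)
    (hb : (spMap g Algebra.TensorProduct.includeRight ≫ b) * h = spMap g Algebra.TensorProduct.includeLeft ≫ b) :
    Nonempty (sp g A ⟶ X) := by
  have hff : (algebraMap A B).FaithfullyFlat := RingHom.faithfullyFlat_algebraMap_iff.2 ‹_›
  haveI : Surjective (Spec.map (CommRingCat.ofHom (algebraMap A B))) :=
    ⟨(RingHom.FaithfullyFlat.iff_flat_and_comap_surjective.1 hff).2⟩
  haveI : Flat (Spec.map (CommRingCat.ofHom (algebraMap A B))) :=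
    (HasRingHomProperty.Spec_iff (P := @Flat)).2 hff.flat
  have hq : Cov (spMap g (Algebra.ofId A B)) :=
    Precoverage.generate_mem_toGrothendieck
      (Scheme.Hom.singleton_mem_fpqcPrecoverage (Spec.map (CommRingCat.ofHom (algebraMap A B))))
  obtain ⟨f, -⟩ := descend hq (lift b y ≫ a.act) (fun W x z hxz => by
    obtain ⟨l, rfl, rfl⟩ := exists_sp_lift g B x z hxz
    simp only [Category.assoc]
    congr 1
    rw [← Category.assoc, comp_lift, ← Category.assoc, comp_lift, ← hb, Groth.L25.Actions.mul_act, hy])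
  exact ⟨f⟩

theorem cochain_cocycle {G X : Over S} [GrpObj G] {a : AlgGrp.Action G X}
    (hps : IsIso (lift a.act (snd G X))) {B : Type u} [CommRing B] [Algebra A B]
    (y : sp g B ⟶ X) (h : sp g (B ⊗[A] B) ⟶ G)
    (hy : lift h (spMap g Algebra.TensorProduct.includeLeft ≫ y) ≫ a.act =
      spMap g Algebra.TensorProduct.includeRight ≫ y) :
    spMap g (e13 A B) ≫ h = (spMap g (e23 A B) ≫ h) * (spMap g (e12 A B) ≫ h) := by
  have key : ∀ e : B ⊗[A] B →ₐ[A] B ⊗[A] (B ⊗[A] B),
      lift (spMap g e ≫ h) (spMap g (e.comp Algebra.TensorProduct.includeLeft) ≫ y) ≫ a.act =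
        spMap g (e.comp Algebra.TensorProduct.includeRight) ≫ y := by
    intro e
    rw [← spMap_comp, ← spMap_comp, Category.assoc, Category.assoc, ← hy, ← Category.assoc (spMap g e) (lift _ _),
      comp_lift]
  have h1 : (e13 A B).comp Algebra.TensorProduct.includeLeft = (e12 A B).comp Algebra.TensorProduct.includeLeft := by
    ext; simp
  have h2 : (e13 A B).comp Algebra.TensorProduct.includeRight = (e23 A B).comp Algebra.TensorProduct.includeRight := by
    ext; simp
  have h3 : (e12 A B).comp Algebra.TensorProduct.includeRight = (e23 A B).comp Algebra.TensorProduct.includeLeft := by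
    ext; simp
  refine act_injective hps (x := spMap g ((e13 A B).comp Algebra.TensorProduct.includeLeft) ≫ y) ?_
  rw [key, Groth.L25.Actions.mul_act, h1, key, h3, key, h2]

/-- The functions on `sp g C`. -/
abbrev toRing (C : Type u) [CommRing C] [Algebra A C] : Γ((sp g C).left, ⊤) →+* C :=
  (Scheme.ΓSpecIso (CommRingCat.of C)).hom.hom

theorem toRing_comp (φ : C →ₐ[A] D) (v : Γ((sp g C).left, ⊤)) :
    toRing g D ((spMap g φ).left.appTop v) = φ (toRing g C v) :=
  congrArg (fun ψ => (ConcreteCategory.hom ψ) v) (Scheme.ΓSpecIso_naturality (CommRingCat.ofHom φ.toRingHom))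

theorem toRing_bijective : Function.Bijective (toRing g C) :=
  (Scheme.ΓSpecIso (CommRingCat.of C)).commRingCatIsoToRingEquiv.bijective

/-- Additive points. -/
def fnGa (t : sp g C ⟶ Red.Ga S) : C := toRing g C (Red.gaFn t)

theorem fnGa_comp (φ : C →ₐ[A] D) (t : sp g C ⟶ Red.Ga S) : fnGa g (spMap g φ ≫ t) = φ (fnGa g t) := by
  rw [fnGa, fnGa, Groth.L25.GaPts.gaFn_comp, toRing_comp]

theorem fnGa_mul (s t : sp g C ⟶ Red.Ga S) : fnGa g (s * t) = fnGa g s + fnGa g t := by
  rw [fnGa, Groth.L25.GaPts.gaFn_mul, map_add]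
  rfl

theorem fnGa_injective : Function.Injective (fnGa g (C := C)) := fun _ _ h =>
  Groth.L25.GaPts.gaFn_injective ((toRing_bijective g).1 h)

theorem exists_fnGa (c : C) : ∃ t : sp g C ⟶ Red.Ga S, fnGa g t = c := by
  obtain ⟨v, hv⟩ := (toRing_bijective g).2 c
  exact ⟨Groth.L25.GaPts.ptOfElt v, by rw [fnGa, Groth.L25.GaPts.gaFn_ptOfElt, hv]⟩

/-- Multiplicative points. -/
def fnGm (t : sp g C ⟶ Red.Gm S) : C := toRing g C (Red.gmFn t)

theorem fnGm_comp (φ : C →ₐ[A] D) (t : sp g C ⟶ Red.Gm S) : fnGm g (spMap g φ ≫ t) = φ (fnGm g t) := by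
  rw [fnGm, fnGm, GmPts.gmFn_comp, toRing_comp]

theorem fnGm_mul (s t : sp g C ⟶ Red.Gm S) : fnGm g (s * t) = fnGm g s * fnGm g t := by
  rw [fnGm, GmPts.gmFn_mul, map_mul]
  rfl

theorem fnGm_injective : Function.Injective (fnGm g (C := C)) := fun _ _ h =>
  GmPts.gmFn_injective ((toRing_bijective g).1 h)

theorem isUnit_fnGm (t : sp g C ⟶ Red.Gm S) : IsUnit (fnGm g t) := (GmPts.isUnit_gmFn t).map _

theorem exists_fnGm (c : Cˣ) : ∃ t : sp g C ⟶ Red.Gm S, fnGm g t = (c : C) := by
  let e := (Scheme.ΓSpecIso (CommRingCat.of C)).commRingCatIsoToRingEquiv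
  refine ⟨GmPts.ptOfUnit (Units.map e.symm.toRingHom.toMonoidHom c), ?_⟩
  rw [fnGm, GmPts.gmFn_ptOfUnit]
  exact e.apply_symm_apply _

theorem section_Ga {X : Over S} {a : AlgGrp.Action (Red.Ga S) X}
    (hps : IsIso (lift a.act (snd (Red.Ga S) X))) {B : Type u} [CommRing B] [Algebra A B]
    [Module.FaithfullyFlat A B] (y : sp g B ⟶ X) : Nonempty (sp g A ⟶ X) := by
  obtain ⟨h, hy⟩ := exists_act_eq hps (spMap g (Algebra.TensorProduct.includeLeft : B →ₐ[A] B ⊗[A] B) ≫ y)
    (spMap g (Algebra.TensorProduct.includeRight : B →ₐ[A] B ⊗[A] B) ≫ y)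
  have hc := congrArg (fnGa g) (cochain_cocycle g hps y h hy)
  rw [fnGa_mul, fnGa_comp, fnGa_comp, fnGa_comp] at hc
  obtain ⟨b₀, hb₀⟩ := exists_add_coboundary A B _ hc
  obtain ⟨b, hb⟩ := exists_fnGa g (C := B) b₀
  refine exists_section_of_coboundary g y h hy b (fnGa_injective g ?_)
  rw [fnGa_mul, fnGa_comp, fnGa_comp, hb, add_comm]
  exact hb₀

theorem mul_eq_of_eq {R : Type u} [CommRing R] {e a b c d : R} (h : e * a = b) (h1 : a * c = 1) (h2 : d * b = 1) :
    d * e = c := by
  have : d * e * (a * c) = c * (d * b) := by rw [← h]; ring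
  rwa [h1, h2, _root_.mul_one, _root_.mul_one] at this

/-- The map of double tensors of a base change. -/
def doubleMap {R P P' : Type u} [CommRing R] [CommRing P] [Algebra R P] [CommRing P']
    [Algebra R P'] {A' : Type u} [CommRing A'] [Algebra R A'] [Algebra A' P']
    [IsScalarTower R A' P'] (f : P →ₐ[R] P') : P ⊗[R] P →ₐ[R] P' ⊗[A'] P' :=
  Algebra.TensorProduct.lift
    ((Algebra.TensorProduct.includeLeft : P' →ₐ[A'] P' ⊗[A'] P').restrictScalars R |>.comp f)
    ((Algebra.TensorProduct.includeRight : P' →ₐ[A'] P' ⊗[A'] P').restrictScalars R |>.comp f)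
    (fun _ _ => Commute.all _ _)

theorem doubleMap_tmul {R P P' A' : Type u} [CommRing R] [CommRing P] [Algebra R P] [CommRing P'] [Algebra R P']
    [CommRing A'] [Algebra R A'] [Algebra A' P'] [IsScalarTower R A' P'] (f : P →ₐ[R] P') (x y : P) :
    doubleMap (A' := A') f (x ⊗ₜ[R] y) = f x ⊗ₜ[A'] f y := by
  simp [doubleMap]

theorem doubleMap_comp_algebraMap {R P P' A' : Type u} [CommRing R] [CommRing P] [Algebra R P] [CommRing P']
    [Algebra R P'] [CommRing A'] [Algebra R A'] [Algebra A' P'] [IsScalarTower R A' P'] (f : P →ₐ[R] P') :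
    (doubleMap (A' := A') f).toRingHom.comp (algebraMap R (P ⊗[R] P)) =
      (algebraMap A' (P' ⊗[A'] P')).comp (algebraMap R A') :=
  (doubleMap (A' := A') f).comp_algebraMap.trans (IsScalarTower.algebraMap_eq R A' (P' ⊗[A'] P'))

theorem section_Gm {X : Over S} {a : AlgGrp.Action (Red.Gm S) X}
    (hps : IsIso (lift a.act (snd (Red.Gm S) X))) {B : Type u} [CommRing B] [Algebra A B]
    [Module.FaithfullyFlat A B] (y : sp g B ⟶ X) (p : Ideal A) [p.IsPrime] :
    ∃ (s : A), s ∉ p ∧ Nonempty (sp g (Localization.Away s) ⟶ X) := by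
  obtain ⟨h, hy⟩ := exists_act_eq hps (spMap g (Algebra.TensorProduct.includeLeft : B →ₐ[A] B ⊗[A] B) ≫ y)
    (spMap g (Algebra.TensorProduct.includeRight : B →ₐ[A] B ⊗[A] B) ≫ y)
  have hc := congrArg (fnGm g) (cochain_cocycle g hps y h hy)
  rw [fnGm_mul, fnGm_comp, fnGm_comp, fnGm_comp] at hc
  obtain ⟨m, s, hs, hm, β, hβ⟩ := exists_unit_coboundary A B (isUnit_fnGm g h).unit hc p
  let A' : CommRingCat.{u} := CommRingCat.of (Localization.Away s)
  let g' : Spec A' ⟶ S := Spec.map (CommRingCat.ofHom (algebraMap A (Localization.Away s))) ≫ g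
  refine ⟨s, hs, ?_⟩
  let B' := Localization.Away s ⊗[A] B
  let inc : B →ₐ[A] B' := Algebra.TensorProduct.includeRight
  let et := (doubleMap (A' := Localization.Away s) inc).toRingHom
  have hfac : inc.toRingHom.comp (algebraMap A B) =
      (algebraMap (Localization.Away s) B').comp (algebraMap A (Localization.Away s)) :=
    RingHom.ext fun r => (inc.commutes r).trans (IsScalarTower.algebraMap_apply A (Localization.Away s) B' r)
  let y' : sp g' B' ⟶ X := (Over.homMk (Spec.map (CommRingCat.ofHom inc.toRingHom)) (by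
    show Spec.map _ ≫ Spec.map _ ≫ g = Spec.map _ ≫ Spec.map _ ≫ g
    rw [← Category.assoc, ← Spec.map_comp, ← CommRingCat.ofHom_comp, hfac, CommRingCat.ofHom_comp,
      Spec.map_comp, Category.assoc]) : sp g' B' ⟶ sp g B) ≫ y
  have hη := doubleMap_comp_algebraMap (A' := Localization.Away s) inc
  let z : sp g' (B' ⊗[Localization.Away s] B') ⟶ sp g (B ⊗[A] B) := Over.homMk (Spec.map (CommRingCat.ofHom et)) (by
    show Spec.map _ ≫ Spec.map _ ≫ g = Spec.map _ ≫ Spec.map _ ≫ g
    rw [← Category.assoc, ← Spec.map_comp, ← CommRingCat.ofHom_comp, hη, CommRingCat.ofHom_comp,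
      Spec.map_comp, Category.assoc])
  let w : sp g' B' ⟶ sp g B := Over.homMk (Spec.map (CommRingCat.ofHom inc.toRingHom)) (by
    show Spec.map _ ≫ Spec.map _ ≫ g = Spec.map _ ≫ Spec.map _ ≫ g
    rw [← Category.assoc, ← Spec.map_comp, ← CommRingCat.ofHom_comp, hfac, CommRingCat.ofHom_comp,
      Spec.map_comp, Category.assoc])
  have hzl : spMap g' Algebra.TensorProduct.includeLeft ≫ w = z ≫ spMap g Algebra.TensorProduct.includeLeft := by
    ext1
    show Spec.map _ ≫ Spec.map _ = Spec.map _ ≫ Spec.map _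
    rw [← Spec.map_comp, ← Spec.map_comp, ← CommRingCat.ofHom_comp, ← CommRingCat.ofHom_comp]
    congr 2
    ext x
    simp [et, doubleMap]
    try rfl
  have hzr : spMap g' Algebra.TensorProduct.includeRight ≫ w = z ≫ spMap g Algebra.TensorProduct.includeRight := by
    ext1
    show Spec.map _ ≫ Spec.map _ = Spec.map _ ≫ Spec.map _
    rw [← Spec.map_comp, ← Spec.map_comp, ← CommRingCat.ofHom_comp, ← CommRingCat.ofHom_comp]
    congr 2
    ext x
    simp [et, doubleMap]
    try rfl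
  have hy' : lift (z ≫ h) (spMap g' Algebra.TensorProduct.includeLeft ≫ y') ≫ a.act =
      spMap g' Algebra.TensorProduct.includeRight ≫ y' := by
    rw [show y' = w ≫ y from rfl, ← Category.assoc, hzl, ← Category.assoc, hzr, Category.assoc, Category.assoc,
      ← hy, ← Category.assoc z (lift _ _), comp_lift]
  have hunit : IsUnit (inc m) := by
    have h2 : IsUnit (inc m * inc β) := by
      rw [← map_mul, hβ, AlgHom.commutes, IsScalarTower.algebraMap_apply A (Localization.Away s) B']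
      exact (IsLocalization.Away.algebraMap_isUnit s).map _
    exact isUnit_of_mul_isUnit_left h2
  obtain ⟨b, hb⟩ := exists_fnGm g' (C := B') hunit.unit⁻¹
  haveI : Module.FaithfullyFlat A' B' := inferInstanceAs (Module.FaithfullyFlat (Localization.Away s) _)
  obtain ⟨f⟩ := exists_section_of_coboundary g' y' (z ≫ h) hy' b (fnGm_injective g' (by
    rw [fnGm_mul, fnGm_comp, fnGm_comp, hb]
    have hh : fnGm g' (z ≫ h) = et (fnGm g h) := by
      rw [fnGm, fnGm, GmPts.gmFn_comp]
      exact congrArg (fun ψ => (ConcreteCategory.hom ψ) (Red.gmFn h))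
        (Scheme.ΓSpecIso_naturality (CommRingCat.ofHom et))
    rw [hh]
    have h1 : et (fnGm g h) * (inc m ⊗ₜ[Localization.Away s] (1 : B')) = (1 : B') ⊗ₜ[Localization.Away s] inc m := by
      have h3 := congrArg et hm
      rw [map_mul, IsUnit.unit_spec] at h3
      simpa [et, doubleMap] using h3
    have e1 : (inc m ⊗ₜ[Localization.Away s] (1 : B')) * ((↑hunit.unit⁻¹ : B') ⊗ₜ[Localization.Away s] (1 : B')) = 1 := by
      rw [Algebra.TensorProduct.tmul_mul_tmul, IsUnit.mul_val_inv, _root_.one_mul (1 : B')]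
      rfl
    have e2 : ((1 : B') ⊗ₜ[Localization.Away s] (↑hunit.unit⁻¹ : B')) * ((1 : B') ⊗ₜ[Localization.Away s] inc m) = 1 := by
      rw [Algebra.TensorProduct.tmul_mul_tmul, IsUnit.val_inv_mul, _root_.one_mul (1 : B')]
      rfl
    show ((1 : B') ⊗ₜ[Localization.Away s] (↑hunit.unit⁻¹ : B')) * et (fnGm g h) =
      (↑hunit.unit⁻¹ : B') ⊗ₜ[Localization.Away s] (1 : B')
    exact mul_eq_of_eq h1 e1 e2))
  exact ⟨(Over.homMk (𝟙 _) (by simp [sp, g']) : sp g (Localization.Away s) ⟶ sp g' A') ≫ f⟩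

/-- An affine open of the base over which the torsor is the spectrum of a faithfully flat algebra. -/
theorem exists_chart {G X : Over S} [GrpObj G] [IsAffineHom G.hom] [Flat G.hom] {a : AlgGrp.Action G X}
    (h : NonAbH1.IsTorsorFor Scheme.fpqcPrecoverage a) {U : S.Opens} (hU : IsAffineOpen U) :
    ∃ (B : Type u) (_ : CommRing B) (_ : Algebra Γ(S, U) B) (_ : Module.FaithfullyFlat Γ(S, U) B),
      Nonempty (sp hU.fromSpec B ⟶ X) := by
  haveI := Groth.L25.Actions.descendsAlong_flat_fpqc.{u}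
  haveI : IsAffineHom X.hom := Groth.L09.TorsorSch.of_grp @IsAffineHom.{u} a h ‹_›
  haveI : Flat X.hom := Groth.L09.TorsorSch.of_grp @Flat.{u} a h ‹_›
  haveI : Surjective X.hom := Groth.L09.TorsorSch.of_grp @Surjective a h (Groth.L25.Actions.surjective_grp G)
  haveI : IsAffine (X.hom ⁻¹ᵁ U).toScheme := hU.preimage X.hom
  let W := pullback X.hom hU.fromSpec
  haveI : IsAffine W := isAffine_of_isAffineHom (pullback.snd X.hom hU.fromSpec)
  let φ : W ⟶ Spec Γ(S, U) := pullback.snd X.hom hU.fromSpec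
  haveI : Flat φ := inferInstance
  haveI : Surjective φ := inferInstance
  let ψ : Γ(S, U) ⟶ Γ(W, ⊤) := (Scheme.ΓSpecIso Γ(S, U)).inv ≫ φ.appTop
  have hψ : W.isoSpec.inv ≫ φ = Spec.map ψ := by
    rw [← Scheme.isoSpec_inv_naturality, Spec.map_comp]
    congr 1
    exact Scheme.isoSpec_Spec_inv _
  have hflat : Flat (Spec.map ψ) := by rw [← hψ]; infer_instance
  have hsurj : Surjective (Spec.map ψ) := by rw [← hψ]; infer_instance
  letI := ψ.hom.toAlgebra
  have hff : Module.FaithfullyFlat Γ(S, U) Γ(W, ⊤) := by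
    rw [← RingHom.faithfullyFlat_algebraMap_iff]
    exact RingHom.FaithfullyFlat.iff_flat_and_comap_surjective.2
      ⟨(HasRingHomProperty.Spec_iff (P := @Flat)).1 hflat, hsurj.1⟩
  refine ⟨Γ(W, ⊤), inferInstance, inferInstance, hff, ⟨Over.homMk (W.isoSpec.inv ≫ pullback.fst _ _) ?_⟩⟩
  rw [Category.assoc, pullback.condition, ← Category.assoc]
  show (W.isoSpec.inv ≫ φ) ≫ _ = _
  rw [hψ]
  rfl

theorem hasSectionOver_of {X : Over S} {Z : Scheme.{u}} {f : Z ⟶ S} (x : Over.mk f ⟶ X) :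
    NonAbH1.HasSectionOver X f := ⟨x.left, Over.w x⟩

theorem flat_Ga : Flat (Red.Ga S).hom := by
  refine MorphismProperty.pullback_snd (P := @Flat.{u}) _ _ ?_
  show Flat (Spec.map (CommRingCat.ofHom (algebraMap (ULift.{u} ℤ) _)))
  rw [HasRingHomProperty.Spec_iff (P := @Flat), CommRingCat.hom_ofHom]
  haveI : Module.Free (ULift.{u} ℤ) (ULift.{u} ℤ) := Module.Free.self _
  haveI : Module.Free (ULift.{u} ℤ) (SymmetricAlgebra (ULift.{u} ℤ) (ULift.{u} ℤ)) :=
    Module.Free.of_equiv (SymmetricAlgebra.equivMvPolynomial (Module.Basis.singleton PUnit.{u + 1} (ULift.{u} ℤ))).symm.toLinearEquiv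
  exact RingHom.flat_algebraMap_iff.2
    (by exact Module.Flat.of_free (R := ULift.{u} ℤ) (M := SymmetricAlgebra (ULift.{u} ℤ) (ULift.{u} ℤ)))

theorem isAffineHom_Ga : IsAffineHom (Red.Ga S).hom := by
  haveI : IsAffine Red.GaZ.{u}.left := inferInstanceAs (IsAffine (Spec _))
  exact MorphismProperty.pullback_snd (P := @IsAffineHom.{u}) _ _ (isAffineHom_of_isAffine _)

theorem isAffineHom_Gm : IsAffineHom (Red.Gm S).hom := by
  haveI : IsAffine (Red.diag (ULift.{u} ℤ) ℤ).left := inferInstanceAs (IsAffine (Spec _))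
  exact MorphismProperty.pullback_snd (P := @IsAffineHom.{u}) _ _ (isAffineHom_of_isAffine _)

theorem flat_Gm : Flat (Red.Gm S).hom := by
  refine MorphismProperty.pullback_snd (P := @Flat.{u}) _ _ ?_
  show Flat (Spec.map (CommRingCat.ofHom (algebraMap (ULift.{u} ℤ) (MonoidAlgebra (ULift.{u} ℤ) (Multiplicative ℤ)))))
  rw [HasRingHomProperty.Spec_iff (P := @Flat), CommRingCat.hom_ofHom]
  exact RingHom.flat_algebraMap_iff.2 inferInstance

theorem locallyTrivial_of_nhd {X : Over S}
    (h : ∀ x : S, ∃ (Z : Scheme.{u}) (j : Z ⟶ S), IsOpenImmersion j ∧ x ∈ Set.range j ∧ Nonempty (Over.mk j ⟶ X)) :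
    NonAbH1.IsLocallyTrivialFor Scheme.zariskiPrecoverage X := by
  choose Z j hj hx hs using h
  refine ⟨Presieve.ofArrows Z j, ?_, ?_⟩
  · rw [Scheme.zariskiPrecoverage, Scheme.ofArrows_mem_precoverage_iff]
    exact ⟨fun x => ⟨x, hx x⟩, fun i => hj i⟩
  · rintro _ _ ⟨i⟩
    exact hasSectionOver_of (hs i).some

theorem isTorsorFor_zariski_Ga (X : Over S) (a : AlgGrp.Action (Red.Ga S) X)
    (h : NonAbH1.IsTorsorFor Scheme.fpqcPrecoverage a) : NonAbH1.IsTorsorFor Scheme.zariskiPrecoverage a := by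
  refine ⟨h.1, locallyTrivial_of_nhd fun x => ?_⟩
  obtain ⟨U, hU, hxU, -⟩ := exists_isAffineOpen_mem_and_subset (x := x) (U := ⊤) trivial
  haveI := flat_Ga (S := S)
  haveI := isAffineHom_Ga (S := S)
  obtain ⟨B, _, _, _, ⟨y⟩⟩ := exists_chart h hU
  obtain ⟨t⟩ := section_Ga hU.fromSpec h.1 y
  refine ⟨_, (sp hU.fromSpec Γ(S, U)).hom, ?_, ?_, ⟨t⟩⟩
  · simp only [Algebra.algebraMap_self, Over.mk_hom]
    rw [CommRingCat.ofHom_id, Spec.map_id, Category.id_comp]
    infer_instance
  · simp only [Algebra.algebraMap_self, Over.mk_hom]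
    rw [CommRingCat.ofHom_id, Spec.map_id, Category.id_comp, hU.range_fromSpec]
    exact hxU

theorem isTorsorFor_zariski_Gm (X : Over S) (a : AlgGrp.Action (Red.Gm S) X)
    (h : NonAbH1.IsTorsorFor Scheme.fpqcPrecoverage a) : NonAbH1.IsTorsorFor Scheme.zariskiPrecoverage a := by
  refine ⟨h.1, locallyTrivial_of_nhd fun x => ?_⟩
  obtain ⟨U, hU, hxU, -⟩ := exists_isAffineOpen_mem_and_subset (x := x) (U := ⊤) trivial
  haveI := flat_Gm (S := S)
  haveI := isAffineHom_Gm (S := S)
  obtain ⟨B, _, _, _, ⟨y⟩⟩ := exists_chart h hU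
  obtain ⟨s, hs, ⟨t⟩⟩ := section_Gm hU.fromSpec h.1 y (hU.primeIdealOf ⟨x, hxU⟩).asIdeal
  refine ⟨_, (sp hU.fromSpec (Localization.Away s)).hom, inferInstanceAs (IsOpenImmersion (_ ≫ _)), ?_, ⟨t⟩⟩
  have hmem : hU.primeIdealOf ⟨x, hxU⟩ ∈
      Set.range (PrimeSpectrum.comap (algebraMap Γ(S, U) (Localization.Away s))) := by
    rw [PrimeSpectrum.localization_away_comap_range (Localization.Away s) s]
    exact hs
  obtain ⟨q, hq⟩ := hmem
  refine ⟨q, ?_⟩
  refine (Scheme.Hom.comp_apply (Spec.map (CommRingCat.ofHom (algebraMap Γ(S, U) (Localization.Away s))))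
    hU.fromSpec q).trans ?_
  exact (congrArg hU.fromSpec hq).trans (hU.fromSpec_primeIdealOf ⟨x, hxU⟩)

end Groth.L27.Torsor

end
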